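import Cfsg.Agent.H355.PQ.Defs
import Cfsg.Agent.H792.PQ.A3a
import Cfsg.Agent.H358.A3.Normal

/-!
# S4612, row of `PSL_n`, [D8] the reduction (helper975)

`pq_red` : `PQ p q (SL(K ^ w × V)) → PQ p q (SL(V))`.
-/

set_option autoImplicit false
set_option linter.unusedSectionVars false
set_option linter.unusedVariables false

open Cfsg Module MulAction

namespace Cfsg.Agent.H975.PQL

open Cfsg.Agent.H317.PQ Cfsg.Agent.H329.PQ Cfsg.Agent.H358.A3 Cfsg.Agent.H355.PQ

universe u v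

variable {F : Type u} [Field F] {K : Type u} [Field K] [Algebra F K] {V : Type v} [AddCommGroup V] [Module F V]
  {p e w : ℕ} {ζ : Kˣ}

theorem coe_pow_SL {W : Type*} [AddCommGroup W] [Module F W] (g : SpecialLinearGroup F W) (n : ℕ) :
    (g ^ n).1 = g.1 ^ n := by
  induction n with
  | zero => rfl
  | succ n ih =>
    rw [pow_succ, pow_succ, ← ih]
    rfl

theorem el_mul (c d : Kˣ) (A B : V ≃ₗ[F] V) :
    (el (c * d) (A * B) : Sp K w V ≃ₗ[F] Sp K w V) = el c A * el d B := by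
  ext1 v
  rw [LinearEquiv.mul_apply, el_apply, el_apply, el_apply]
  refine Prod.ext ?_ rfl
  funext i
  show (((c * d : Kˣ) : K)) * v.1 i = (c : K) * ((d : K) * v.1 i)
  rw [Units.val_mul, mul_assoc]

theorem el_one_one : (el (1 : Kˣ) (1 : V ≃ₗ[F] V) : Sp K w V ≃ₗ[F] Sp K w V) = 1 := by
  ext1 v
  rw [el_apply]
  refine Prod.ext ?_ rfl
  funext i
  show ((1 : Kˣ) : K) * v.1 i = v.1 i
  rw [Units.val_one, one_mul]

/-- `el` as a homomorphism in the first argument. -/
theorem el_pow (c : Kˣ) (n : ℕ) : (el c (1 : V ≃ₗ[F] V) : Sp K w V ≃ₗ[F] Sp K w V) ^ n = el (c ^ n) 1 := by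
  induction n with
  | zero => rw [pow_zero, pow_zero, el_one_one]
  | succ n ih => rw [pow_succ, ih, pow_succ, ← el_mul, mul_one]

theorem det_el_one [FiniteDimensional F V] [FiniteDimensional F K] (A : V ≃ₗ[F] V) :
    LinearEquiv.det (el (1 : Kˣ) A : Sp K w V ≃ₗ[F] Sp K w V) = LinearEquiv.det A := by
  apply Units.ext
  rw [LinearEquiv.coe_det, LinearEquiv.coe_det]
  have h1 : ((el (1 : Kˣ) A : Sp K w V ≃ₗ[F] Sp K w V) : Sp K w V →ₗ[F] Sp K w V) =
      (LinearMap.id : (Fin w → K) →ₗ[F] (Fin w → K)).prodMap (A : V →ₗ[F] V) := by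
    refine LinearMap.ext fun v => ?_
    show el (1 : Kˣ) A v = (v.1, A v.2)
    rw [el_apply]
    refine Prod.ext ?_ rfl
    funext i
    show ((1 : Kˣ) : K) * v.1 i = v.1 i
    rw [Units.val_one, one_mul]
  rw [h1, LinearMap.det_prodMap, LinearMap.det_id, one_mul]

theorem det_el_zeta (h : Dat F K p e ζ) (he : 2 ≤ e) :
    LinearEquiv.det (el ζ (1 : V ≃ₗ[F] V) : Sp K w V ≃ₗ[F] Sp K w V) = 1 := by
  have hF := h.finF
  have hζ : ζ ^ p = 1 := by rw [← h.ord, pow_orderOf_eq_one]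
  have h1 : LinearEquiv.det (el ζ (1 : V ≃ₗ[F] V) : Sp K w V ≃ₗ[F] Sp K w V) ^ p = 1 := by
    rw [← map_pow, el_pow, hζ, el_one_one, map_one]
  have h2 : LinearEquiv.det (el ζ (1 : V ≃ₗ[F] V) : Sp K w V ≃ₗ[F] Sp K w V) ^ (Nat.card F - 1) = 1 := by
    rw [← Nat.card_units F]
    exact pow_card_eq_one'
  have h3 : ¬ p ∣ Nat.card F - 1 := by
    intro hd
    have h4 : p ∣ Nat.card F ^ 1 - 1 := by rwa [pow_one]
    have := Nat.le_of_dvd one_pos ((h.min 1).1 h4)
    omega
  have h5 : Nat.Coprime p (Nat.card F - 1) := (Nat.Prime.coprime_iff_not_dvd h.prime).2 h3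
  exact orderOf_eq_one_iff.1 (Nat.eq_one_of_dvd_coprimes h5 (orderOf_dvd_of_pow_eq_one h1) (orderOf_dvd_of_pow_eq_one h2))

/-- the element `u = el ζ 1`. -/
noncomputable def uu (h : Dat F K p e ζ) (he : 2 ≤ e) (w : ℕ) (V : Type v) [AddCommGroup V] [Module F V] :
    SpecialLinearGroup F (Sp K w V) := ⟨el ζ 1, det_el_zeta h he⟩

theorem uu_apply (h : Dat F K p e ζ) (he : 2 ≤ e) (v : Sp K w V) : (uu h he w V).1 v = (fun i => (ζ : K) * v.1 i, v.2) :=
  el_apply _ _ _

theorem zeta_ne (h : Dat F K p e ζ) : (ζ : K) - 1 ≠ 0 := by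
  intro h0
  have h1 : ζ = 1 := Units.ext (by rw [Units.val_one]; exact sub_eq_zero.1 h0)
  have h2 := h.ord
  rw [h1, orderOf_one] at h2
  exact h.prime.one_lt.ne h2

/-- commuting with `u`: the second factor is preserved. -/
theorem fst_zero (h : Dat F K p e ζ) (he : 2 ≤ e) {g : SpecialLinearGroup F (Sp K w V)}
    (hg : uu h he w V * g = g * uu h he w V) (y : V) : (g.1 ((0, y) : Sp K w V)).1 = 0 := by
  have h1 : (uu h he w V).1 (g.1 ((0, y) : Sp K w V)) = g.1 ((uu h he w V).1 ((0, y) : Sp K w V)) := by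
    have := congrArg (fun z : SpecialLinearGroup F (Sp K w V) => z.1 ((0, y) : Sp K w V)) hg
    exact this
  have h2 : (uu h he w V).1 ((0, y) : Sp K w V) = (0, y) := by
    rw [uu_apply]
    refine Prod.ext ?_ rfl
    funext i
    exact mul_zero _
  rw [h2, uu_apply] at h1
  have h3 := congrArg Prod.fst h1
  funext i
  have h4 := congrFun h3 i
  have h5 : ((ζ : K) - 1) * (g.1 ((0, y) : Sp K w V)).1 i = 0 := by
    rw [sub_mul, one_mul]
    exact sub_eq_zero.2 h4
  rcases mul_eq_zero.1 h5 with h6 | h6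
  · exact absurd h6 (zeta_ne h)
  · exact h6

/-- commuting with `u`: the first factor is preserved. -/
theorem snd_zero (h : Dat F K p e ζ) (he : 2 ≤ e) {g : SpecialLinearGroup F (Sp K w V)}
    (hg : uu h he w V * g = g * uu h he w V) (x : Fin w → K) : (g.1 ((x, 0) : Sp K w V)).2 = 0 := by
  have hz := zeta_ne h
  -- `(x, 0) = (u - 1) (x', 0)`
  set x' : Fin w → K := fun i => ((ζ : K) - 1)⁻¹ * x i with hx'
  have h1 : ((x, 0) : Sp K w V) = (uu h he w V).1 ((x', 0) : Sp K w V) - (x', 0) := by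
    rw [uu_apply]
    refine Prod.ext ?_ ?_
    · funext i
      show x i = (ζ : K) * (((ζ : K) - 1)⁻¹ * x i) - ((ζ : K) - 1)⁻¹ * x i
      field_simp
    · show (0 : V) = 0 - 0
      rw [sub_zero]
  have h2 : g.1 ((uu h he w V).1 ((x', 0) : Sp K w V)) = (uu h he w V).1 (g.1 ((x', 0) : Sp K w V)) := by
    have := congrArg (fun z : SpecialLinearGroup F (Sp K w V) => z.1 ((x', 0) : Sp K w V)) hg
    exact this.symm
  rw [h1, map_sub, h2, uu_apply]
  show (g.1 ((x', 0) : Sp K w V)).2 - (g.1 ((x', 0) : Sp K w V)).2 = 0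
  rw [sub_self]

section Hom

variable [FiniteDimensional F V]

/-- `A ↦ el 1 A` into the centraliser of `u`. -/
noncomputable def phi (h : Dat F K p e ζ) (he : 2 ≤ e) (w : ℕ) (V : Type v) [AddCommGroup V] [Module F V]
    [FiniteDimensional F V] : SpecialLinearGroup F V →* Subgroup.centralizer ({uu h he w V} : Set (SpecialLinearGroup F (Sp K w V))) where
  toFun A := ⟨⟨el 1 A.1, by
      have := h.finK
      have := h.finF
      have : FiniteDimensional F K := Module.Finite.of_finite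
      rw [det_el_one]; exact A.2⟩, by
    rw [Subgroup.mem_centralizer_singleton_iff]
    apply Subtype.ext
    show el 1 A.1 * el ζ 1 = el ζ 1 * el 1 A.1
    rw [← el_mul, ← el_mul, one_mul, mul_one, one_mul, mul_one]⟩
  map_one' := Subtype.ext (Subtype.ext el_one_one)
  map_mul' A B := Subtype.ext (Subtype.ext (by
    show el 1 (A.1 * B.1) = el 1 A.1 * el 1 B.1
    rw [← el_mul, one_mul]))

theorem phi_apply (h : Dat F K p e ζ) (he : 2 ≤ e) (A : SpecialLinearGroup F V) (v : Sp K w V) :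
    (phi h he w V A).1.1 v = (v.1, A.1 v.2) := by
  show el 1 A.1 v = _
  rw [el_apply]
  refine Prod.ext ?_ rfl
  funext i
  show ((1 : Kˣ) : K) * v.1 i = v.1 i
  rw [Units.val_one, one_mul]

theorem phi_injective (h : Dat F K p e ζ) (he : 2 ≤ e) : Function.Injective (phi h he w V) := by
  intro A B hAB
  apply Subtype.ext
  ext1 y
  have h1 := phi_apply (w := w) h he A ((0, y) : Sp K w V)
  rw [hAB, phi_apply] at h1
  exact (congrArg Prod.snd h1).symm

theorem mem_range_phi (h : Dat F K p e ζ) (he : 2 ≤ e)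
    (c : Subgroup.centralizer ({uu h he w V} : Set (SpecialLinearGroup F (Sp K w V)))) :
    c ∈ (phi h he w V).range ↔ ∀ x : Fin w → K, c.1.1 ((x, 0) : Sp K w V) = (x, 0) := by
  constructor
  · rintro ⟨A, rfl⟩ x
    rw [phi_apply]
    exact Prod.ext rfl (map_zero A.1)
  · intro hc
    have hcomm : uu h he w V * c.1 = c.1 * uu h he w V :=
      (Subgroup.mem_centralizer_singleton_iff.1 c.2).symm
    have hcomm' : uu h he w V * (c⁻¹).1 = (c⁻¹).1 * uu h he w V :=
      (Subgroup.mem_centralizer_singleton_iff.1 (c⁻¹).2).symm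
    have hci : ∀ v, (c⁻¹).1.1 (c.1.1 v) = v := by
      intro v
      have h1 : (c⁻¹ * c).1.1 v = v := by rw [inv_mul_cancel]; rfl
      exact h1
    have hci' : ∀ v, c.1.1 ((c⁻¹).1.1 v) = v := by
      intro v
      have h1 : (c * c⁻¹).1.1 v = v := by rw [mul_inv_cancel]; rfl
      exact h1
    have h2 : ∀ y : V, c.1.1 ((0, y) : Sp K w V) = (0, (c.1.1 ((0, y) : Sp K w V)).2) := fun y =>
      Prod.ext (fst_zero h he hcomm y) rfl
    have h2' : ∀ y : V, (c⁻¹).1.1 ((0, y) : Sp K w V) = (0, ((c⁻¹).1.1 ((0, y) : Sp K w V)).2) := fun y =>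
      Prod.ext (fst_zero h he hcomm' y) rfl
    let B : V →ₗ[F] V := (LinearMap.snd F (Fin w → K) V) ∘ₗ (c.1.1 : Sp K w V →ₗ[F] Sp K w V) ∘ₗ (LinearMap.inr F (Fin w → K) V)
    let B' : V →ₗ[F] V := (LinearMap.snd F (Fin w → K) V) ∘ₗ ((c⁻¹).1.1 : Sp K w V →ₗ[F] Sp K w V) ∘ₗ (LinearMap.inr F (Fin w → K) V)
    have hB : ∀ y, B y = (c.1.1 ((0, y) : Sp K w V)).2 := fun y => rfl
    have hB' : ∀ y, B' y = ((c⁻¹).1.1 ((0, y) : Sp K w V)).2 := fun y => rfl
    let A : V ≃ₗ[F] V := LinearEquiv.ofLinearMap B B'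
      (LinearMap.ext fun y => by
        show B (B' y) = y
        rw [hB, hB', ← h2', hci'])
      (LinearMap.ext fun y => by
        show B' (B y) = y
        rw [hB', hB, ← h2, hci])
    have hel : (el 1 A : Sp K w V ≃ₗ[F] Sp K w V) = c.1.1 := by
      ext1 v
      rw [el_apply]
      have h3 : v = ((v.1, 0) : Sp K w V) + (0, v.2) := by
        refine Prod.ext ?_ ?_
        · exact (add_zero _).symm
        · exact (zero_add _).symm
      conv_rhs => rw [h3, map_add, hc, h2]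
      refine Prod.ext ?_ ?_
      · funext i
        show ((1 : Kˣ) : K) * v.1 i = v.1 i + 0
        rw [Units.val_one, one_mul, add_zero]
      · show A v.2 = 0 + (c.1.1 ((0, v.2) : Sp K w V)).2
        rw [zero_add]
        rfl
    have hdet : LinearEquiv.det A = 1 := by
      have := h.finK
      have := h.finF
      have : FiniteDimensional F K := Module.Finite.of_finite
      rw [← det_el_one (K := K) (w := w) A, hel]
      exact c.1.2
    exact ⟨⟨A, hdet⟩, Subtype.ext (Subtype.ext hel)⟩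

theorem range_normal (h : Dat F K p e ζ) (he : 2 ≤ e) : (phi h he w V).range.Normal := ⟨fun g hg c => by
  rw [mem_range_phi] at hg ⊢
  intro x
  have hcomm' : uu h he w V * (c⁻¹).1 = (c⁻¹).1 * uu h he w V :=
    (Subgroup.mem_centralizer_singleton_iff.1 (c⁻¹).2).symm
  have h1 : (c⁻¹).1.1 ((x, 0) : Sp K w V) = (((c⁻¹).1.1 ((x, 0) : Sp K w V)).1, 0) :=
    Prod.ext rfl (snd_zero h he hcomm' x)
  have h2 : (c * g * c⁻¹).1.1 ((x, 0) : Sp K w V) = c.1.1 (g.1.1 ((c⁻¹).1.1 ((x, 0) : Sp K w V))) := rfl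
  rw [h2, h1, hg, ← h1]
  have h3 : (c * c⁻¹).1.1 ((x, 0) : Sp K w V) = (x, 0) := by rw [mul_inv_cancel]; rfl
  exact h3⟩

end Hom

/-- **[D8]** the reduction. -/
theorem pq_red {q : ℕ} [FiniteDimensional F V] (h : Dat F K p e ζ) (he : 2 ≤ e) (hw : 1 ≤ w) (hq : q.Prime)
    (hpq : p ≠ q) (hPQ : PQ p q (SpecialLinearGroup F (Sp K w V))) : PQ p q (SpecialLinearGroup F V) := by
  have hF := h.finF
  have hK := h.finK
  have hV : Finite V := Module.finite_of_finite F
  have hfin : Finite (SpecialLinearGroup F (Sp K w V)) := by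
    refine Finite.of_injective (fun g : SpecialLinearGroup F (Sp K w V) => (g.1 : Sp K w V → Sp K w V)) ?_
    intro a b hab
    exact Subtype.ext (DFunLike.coe_injective hab)
  have hord : ∃ k : ℕ, orderOf (uu h he w V) = p ^ k := by
    have hp := h.prime
    have h1 : (uu h he w V) ^ p = 1 := by
      apply Subtype.ext
      have hζ : ζ ^ p = 1 := by rw [← h.ord, pow_orderOf_eq_one]
      rw [coe_pow_SL]
      show (el ζ 1 : Sp K w V ≃ₗ[F] Sp K w V) ^ p = 1
      rw [el_pow, hζ, el_one_one]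
    have h2 := orderOf_dvd_of_pow_eq_one h1
    rcases (Nat.dvd_prime hp).1 h2 with h3 | h3
    · exact ⟨0, by rw [h3, pow_zero]⟩
    · exact ⟨1, by rw [h3, pow_one]⟩
  have h1 := PQ.centralizer h.prime hq hpq hPQ hord
  have hn := range_normal (w := w) (V := V) h he
  have h2 := PQ.normal h.prime hq hpq h1 (phi h he w V).range
  exact PQ.of_equiv (MonoidHom.ofInjective (phi_injective h he)).symm h2

end Cfsg.Agent.H975.PQL
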